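import Groth.Agent.LinBunPull66.Pull
import Mathlib.AlgebraicGeometry.PullbackCarrier

/-!
Non-vanishing loci of the coordinates.
-/

universe u v

open CategoryTheory CategoryTheory.Limits MonoidalCategory CartesianMonoidalCategory MonObj
open AlgebraicGeometry Opposite

noncomputable section

namespace Groth.Agent.LinBunPull66

variable {Y W : Scheme.{u}} {p : W ⟶ Y} [IsAffineHom p] {κ : Type v} (c : Coords p κ)
  (hU : ∀ l, IsAffineOpen (c.U l))

/-- A coordinate is non-zero only over its open. -/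
lemma mem_of_mem_basicOpen (hcov : ∀ y : Y, ∃ l, y ∈ c.U l) {l : κ} {w : W} (hw : w ∈ W.basicOpen (c.f l)) :
    p w ∈ c.U l := by
  obtain ⟨m, hm⟩ := hcov (p w)
  obtain ⟨d, hd, hrel⟩ := c.rel m l
  have h1 : w ∈ W.basicOpen (W.presheaf.map (homOfLE (le_top : p ⁻¹ᵁ c.U m ≤ ⊤)).op (c.f l)) := by
    rw [Scheme.basicOpen_res]
    exact ⟨hm, hw⟩
  rw [hrel, Scheme.basicOpen_mul, ← Scheme.preimage_basicOpen, hd] at h1
  exact h1.1.1

include hU in
/-- Over its open a coordinate takes a non-zero value above every point. -/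
lemma exists_mem_basicOpen {l : κ} {y : Y} (hy : y ∈ c.U l) :
    ∃ w : W, p w = y ∧ w ∈ W.basicOpen (c.f l) := by
  let U := c.U l
  have hW : IsAffineOpen (p ⁻¹ᵁ U) := (hU l).preimage p
  have hb := c.coord l U (hU l) le_rfl
  let e := RingEquiv.ofBijective _ hb
  let g := W.presheaf.map (homOfLE (le_top : p ⁻¹ᵁ U ≤ ⊤)).op (c.f l)
  let ev : Γ(W, p ⁻¹ᵁ U) ⟶ Γ(Y, U) := CommRingCat.ofHom ((Polynomial.evalRingHom 1).comp e.symm.toRingHom)
  have he : ∀ P, e.symm (Polynomial.eval₂RingHom (p.app U).hom g P) = P := fun P => e.symm_apply_apply P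
  have hev : p.appLE U (p ⁻¹ᵁ U) le_rfl ≫ ev = 𝟙 _ := by
    ext r
    have := he (Polynomial.C r)
    simp only [Polynomial.coe_eval₂RingHom, Polynomial.eval₂_C, p.app_eq_appLE] at this
    simp [ev, this]
  have hg : ev.hom g = 1 := by
    have := he Polynomial.X
    simp only [Polynomial.coe_eval₂RingHom, Polynomial.eval₂_X] at this
    show Polynomial.eval 1 (e.symm g) = 1
    rw [this, Polynomial.eval_X]
  let s : Spec Γ(Y, U) ⟶ W := Spec.map ev ≫ hW.fromSpec
  have hs : s ≫ p = (hU l).fromSpec := by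
    rw [Category.assoc, ← (hU l).SpecMap_appLE_fromSpec p hW le_rfl, ← Category.assoc, ← Spec.map_comp, hev,
      Spec.map_id, Category.id_comp]
  obtain ⟨q, rfl⟩ : y ∈ Set.range (hU l).fromSpec := by rw [(hU l).range_fromSpec]; exact hy
  refine ⟨s q, by rw [← Scheme.Hom.comp_apply, hs], ?_⟩
  have h1 : Spec.map ev q ∈ hW.fromSpec ⁻¹ᵁ W.basicOpen g := by
    rw [hW.fromSpec_preimage_basicOpen]
    show ev.hom g ∉ q.asIdeal
    rw [hg]
    exact fun h => q.isPrime.ne_top (q.asIdeal.eq_top_iff_one.mpr h)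
  have h2 : s q ∈ W.basicOpen g := by
    rw [Scheme.Hom.comp_apply]
    exact h1
  rw [Scheme.basicOpen_res] at h2
  exact h2.2

variable {S : Scheme.{u}} {G X Y' : Over S} [GrpObj G] (a : AlgGrp.Action G X) (φ : X ⟶ Y')
  (hφ : GIT.IsInvariant a φ) {W' : Scheme.{u}} {p' : W' ⟶ Y'.left} [IsAffineHom p'] (c' : Coords p' κ)
  (hU' : ∀ l, IsAffineOpen (c'.U l)) (hcov' : ∀ y : Y'.left, ∃ l, y ∈ c'.U l)

lemma isInvSection (l : κ) : (bundle a φ p' hφ c' hU' hcov').IsInvSection 1 (fV φ p' c' l) := by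
  refine ⟨?_, ?_⟩
  · rintro _ _ ⟨m, rfl, rfl⟩
    obtain ⟨d, -, hrel⟩ := fV_rel φ p' c' m l
    exact ⟨φ.left.app (c'.U m) d, hrel.trans (congrArg _ (pow_one _).symm)⟩
  · show (actMap a φ p' hφ).left.appTop _ = (snd G (tot φ p')).left.appTop _
    rw [fV, ← ConcreteCategory.comp_apply, ← ConcreteCategory.comp_apply, ← Scheme.Hom.comp_appTop,
      ← Scheme.Hom.comp_appTop, ← Over.comp_left, ← Over.comp_left, actMap_toW]

lemma nonvanishing_fV (l : κ) :
    (Xo φ p' c' l : Set X.left) = GLinSh.nonvanishing (bundle a φ p' hφ c' hU' hcov').π (fV φ p' c' l) := by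
  have hb : (tot φ p').left.basicOpen (fV φ p' c' l) = (toW φ p').left ⁻¹ᵁ W'.basicOpen (c'.f l) :=
    ((toW φ p').left.preimage_basicOpen (c'.f l)).symm
  ext x
  show φ.left x ∈ c'.U l ↔ x ∈ (proj φ p').left.base '' ((tot φ p').left.basicOpen (fV φ p' c' l) : Set _)
  rw [hb]
  constructor
  · intro hx
    obtain ⟨w, hw, hwf⟩ := exists_mem_basicOpen c' hU' hx
    obtain ⟨z, hz1, hz2⟩ := Scheme.Pullback.exists_preimage_pullback x w hw.symm
    refine ⟨z, ?_, hz1⟩
    show pullback.snd φ.left p' z ∈ W'.basicOpen (c'.f l)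
    rw [hz2]
    exact hwf
  · rintro ⟨z, hz, rfl⟩
    have := mem_of_mem_basicOpen c' hcov' (w := pullback.snd φ.left p' z) hz
    exact (congrArg (fun f : (tot φ p').left ⟶ Y'.left => f z ∈ c'.U l) (pullback.condition (f := φ.left) (g := p'))).mpr this

end Groth.Agent.LinBunPull66
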