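import Groth.Agent.LineCone35.Frames
import Groth.Agent.RelSpecX.Gamma
import Groth.Agent.ProjUPX.Affine
import Groth.Agent.AmpleX.FiniteSet
import Groth.Agent.SymAlgX.Universal

/-!
The total space of an invertible module with its global coordinates given by sections.
-/

universe u v

open CategoryTheory AlgebraicGeometry TopologicalSpace Opposite
open Groth.Agent.AModX Groth.Agent.InvX

noncomputable section

namespace Groth.Agent.LinBunPull66

/-- Functions on an affine morphism which are coordinates over opens `U l` and differ by base functions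
whose basic opens are the overlaps. -/
structure Coords {Y W : Scheme.{u}} (p : W ⟶ Y) (κ : Type v) where
  U : κ → Y.Opens
  f : κ → Γ(W, ⊤)
  coord : ∀ (l : κ) (V : Y.Opens), IsAffineOpen V → V ≤ U l → Function.Bijective
    (Polynomial.eval₂RingHom (p.app V).hom (W.presheaf.map (homOfLE (le_top : p ⁻¹ᵁ V ≤ ⊤)).op (f l)))
  rel : ∀ l m : κ, ∃ d : Γ(Y, U l), Y.basicOpen d = U m ⊓ U l ∧
    W.presheaf.map (homOfLE (le_top : p ⁻¹ᵁ U l ≤ ⊤)).op (f m) =
      p.app (U l) d * W.presheaf.map (homOfLE (le_top : p ⁻¹ᵁ U l ≤ ⊤)).op (f l)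

variable {Y : Scheme.{u}} {M : Y.Modules}

/-- The total space of an invertible module, with coordinates from its sections. -/
theorem exists_coords (hM : PicF.IsInvertible M) {κ : Type v} (s : κ → (Coh.structureModule Y ⟶ M)) :
    ∃ (W : Scheme.{u}) (p : W ⟶ Y) (_ : IsAffineHom p) (c : Coords p κ),
      ∀ l, c.U l = CohB1.genLocus M (s l) := by
  have hq := ProjUPX.isQCoh_of_isInvertible hM
  obtain ⟨A, j, hA⟩ := SymAlgX.exists_isSymAlg M hq
  let θ : ∀ V : Y.Opens, A.presheaf.obj (op V) →+* Γ(A.spec, A.π ⁻¹ᵁ V) :=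
    fun V => ((inv A.gammaMap).app (op V)).hom
  have hθ : ∀ V : Y.Opens, Function.Bijective (θ V) := fun V =>
    ConcreteCategory.bijective_of_isIso ((inv A.gammaMap).app (op V))
  have hres : ∀ {U V : Y.Opens} (h : V ≤ U) (a : A.presheaf.obj (op U)),
      θ V (A.presheaf.map (homOfLE h).op a) =
        A.spec.presheaf.map (homOfLE (A.π.preimage_mono h)).op (θ U a) := fun h a =>
    ConcreteCategory.congr_hom ((inv A.gammaMap).naturality (homOfLE h).op) a
  have hstr : ∀ (V : Y.Opens) (r : Γ(Y, V)), θ V ((A.str.app (op V)).hom r) = A.π.app V r := fun V r => by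
    have h : A.str ≫ inv A.gammaMap = A.π.c := by rw [← A.π_c_gammaMap, Category.assoc, IsIso.hom_inv_id, Category.comp_id]
    exact ConcreteCategory.congr_hom (NatTrans.congr_app h (op V)) r
  let g : ∀ {V : Y.Opens}, Γ(M, V) → A.presheaf.obj (op V) := fun {V} x => (j.app V) x
  have hg : ∀ {U V : Y.Opens} (h : V ≤ U) (x : Γ(M, U)),
      g (res M h x) = A.presheaf.map (homOfLE h).op (g x) := fun h x => app_res j h x
  let F : κ → Γ(A.spec, ⊤) := fun l => θ ⊤ (g (one (s l)))
  have hF : ∀ (l : κ) (V : Y.Opens), A.spec.presheaf.map (homOfLE (le_top : A.π ⁻¹ᵁ V ≤ ⊤)).op (F l) =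
      θ V (g (res M (le_top : V ≤ ⊤) (one (s l)))) := fun l V => by
    rw [hg, hres]; rfl
  refine ⟨A.spec, A.π, inferInstance,
    ⟨fun l => CohB1.genLocus M (s l), F, fun l V hV hle => ?_, fun l m => ?_⟩, fun l => rfl⟩
  · have he : IsFrame (res M (le_top : V ≤ ⊤) (one (s l))) := by
      simpa only [res_res] using (AmpleX.res_genLocus_frame (s l)).res hle
    have key : (Polynomial.eval₂RingHom (A.π.app V).hom
        (A.spec.presheaf.map (homOfLE (le_top : A.π ⁻¹ᵁ V ≤ ⊤)).op (F l))) =
        (θ V).comp (Polynomial.eval₂RingHom (A.str.app (op V)).hom (g (res M (le_top : V ≤ ⊤) (one (s l))))) :=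
      Polynomial.ringHom_ext (fun r => by simp [hstr]) (by simp [hF])
    rw [key, RingHom.coe_comp]
    exact (hθ V).comp (LineCone35.bijective_eval₂ hq hA V hV he)
  · have he := AmpleX.res_genLocus_frame (s l)
    obtain ⟨d, hd⟩ := he.exists_coord le_rfl (res M (le_top : CohB1.genLocus M (s l) ≤ ⊤) (one (s m)))
    rw [res_self] at hd
    refine ⟨d, (genLocus_inf (s m) he hd).symm, ?_⟩
    rw [hF, hF, hd]
    have : g (d • res M (le_top : CohB1.genLocus M (s l) ≤ ⊤) (one (s l))) =
        (A.str.app (op (CohB1.genLocus M (s l)))).hom d * g (res M le_top (one (s l))) :=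
      Scheme.Modules.Hom.app_smul j d _
    rw [this, map_mul, hstr]

end Groth.Agent.LinBunPull66
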