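import Groth.Prelude.Def_GLinSh
import Groth.Agent.LinBunPull66.Total
import Mathlib.AlgebraicGeometry.Morphisms.Flat

/-!
Pullback of a line bundle along an invariant affine map, with the trivial lifted action.
-/

universe u v

open CategoryTheory CategoryTheory.Limits MonoidalCategory CartesianMonoidalCategory MonObj
open AlgebraicGeometry Opposite

noncomputable section

namespace Groth.Agent.LinBunPull66

lemma bijective_eval₂_pushout {R R' A A' : CommRingCat.{u}} {ρ : R ⟶ R'} {σ : R ⟶ A} {α : R' ⟶ A'}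
    {β : A ⟶ A'} (h : IsPushout ρ σ α β) {a : A}
    (ha : Function.Bijective (Polynomial.eval₂RingHom σ.hom a)) :
    Function.Bijective (Polynomial.eval₂RingHom α.hom (β.hom a)) := by
  let e := RingEquiv.ofBijective _ ha
  have he : ∀ P, e.symm (Polynomial.eval₂RingHom σ.hom a P) = P := fun P => e.symm_apply_apply P
  let u : A ⟶ CommRingCat.of (Polynomial R') :=
    CommRingCat.ofHom ((Polynomial.mapRingHom ρ.hom).comp e.symm.toRingHom)
  let c : R' ⟶ CommRingCat.of (Polynomial R') := CommRingCat.ofHom Polynomial.C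
  have hw : ρ ≫ c = σ ≫ u := by
    ext r
    have : e.symm (σ.hom r) = Polynomial.C r := by simpa using he (Polynomial.C r)
    simp [u, c, this]
  have h1 : ∀ x, (h.desc c u hw).hom (α.hom x) = Polynomial.C x := fun x =>
    ConcreteCategory.congr_hom (h.inl_desc c u hw) x
  have h2 : ∀ x, (h.desc c u hw).hom (β.hom x) = u.hom x := fun x =>
    ConcreteCategory.congr_hom (h.inr_desc c u hw) x
  have hX : (h.desc c u hw).hom (β.hom a) = Polynomial.X := by
    have : e.symm a = Polynomial.X := by simpa using he Polynomial.X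
    rw [h2]
    show Polynomial.map ρ.hom (e.symm a) = _
    rw [this, Polynomial.map_X]
  refine ⟨Function.LeftInverse.injective (g := (h.desc c u hw).hom) fun P => ?_,
    Function.RightInverse.surjective (g := (h.desc c u hw).hom) fun x => ?_⟩
  · exact RingHom.congr_fun (Polynomial.ringHom_ext
      (f := (h.desc c u hw).hom.comp (Polynomial.eval₂RingHom α.hom (β.hom a))) (g := RingHom.id _)
      (fun r => by simp [h1]) (by simp [hX])) P
  · refine ConcreteCategory.congr_hom (h.hom_ext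
      (k := h.desc c u hw ≫ CommRingCat.ofHom (Polynomial.eval₂RingHom α.hom (β.hom a))) (l := 𝟙 _)
      ?_ ?_) x
    · ext r
      show Polynomial.eval₂ α.hom (β.hom a) ((h.desc c u hw).hom (α.hom r)) = α.hom r
      rw [h1, Polynomial.eval₂_C]
    · ext y
      obtain ⟨P, rfl⟩ := ha.2 y
      show Polynomial.eval₂ α.hom (β.hom a) ((h.desc c u hw).hom (β.hom (Polynomial.eval₂RingHom σ.hom a P))) =
        β.hom (Polynomial.eval₂RingHom σ.hom a P)
      rw [h2]
      show Polynomial.eval₂ α.hom (β.hom a) (Polynomial.map ρ.hom (e.symm _)) = _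
      rw [he, Polynomial.eval₂_map, Polynomial.coe_eval₂RingHom, Polynomial.hom_eval₂]
      congr 1
      exact congrArg CommRingCat.Hom.hom h.w

lemma isUnit_res {Y : Scheme.{u}} {U Z : Y.Opens} (d : Γ(Y, U)) (h : Z ≤ Y.basicOpen d) :
    IsUnit (Y.presheaf.map (homOfLE (h.trans (Y.basicOpen_le d))).op d) := by
  have h1 : IsUnit ((Y.presheaf.map (homOfLE h).op).hom (Y.presheaf.map (homOfLE (Y.basicOpen_le d)).op d)) :=
    (RingedSpace.isUnit_res_basicOpen Y.toRingedSpace d).map _
  convert h1 using 1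
  exact ConcreteCategory.congr_hom (Y.presheaf.map_comp (homOfLE (Y.basicOpen_le d)).op (homOfLE h).op) d

lemma res_appTop {X Y : Scheme.{u}} (f : X ⟶ Y) {Z : X.Opens} {U : Y.Opens} (e : Z ≤ f ⁻¹ᵁ U) (t : Γ(Y, ⊤)) :
    X.presheaf.map (homOfLE le_top).op (f.appTop t) =
      f.appLE U Z e (Y.presheaf.map (homOfLE le_top).op t) := by
  rw [← ConcreteCategory.comp_apply (Y.presheaf.map _), Scheme.Hom.map_appLE]
  rfl

variable {S : Scheme.{u}} {G X Y : Over S} [GrpObj G] (a : AlgGrp.Action G X) (φ : X ⟶ Y)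
  {W : Scheme.{u}} (p : W ⟶ Y.left)

/-- The pulled back total space. -/
def tot : Over S := Over.mk (pullback.fst φ.left p ≫ X.hom)

/-- Its projection. -/
def proj : tot φ p ⟶ X := Over.homMk (pullback.fst φ.left p) rfl

/-- The map to the original total space. -/
def toW : tot φ p ⟶ Over.mk (p ≫ Y.hom) := Over.homMk (pullback.snd φ.left p) (by
  show pullback.snd φ.left p ≫ p ≫ Y.hom = pullback.fst φ.left p ≫ X.hom
  rw [← reassoc_of% pullback.condition, Over.w φ])

lemma tot_ext {Z : Over S} {u v : Z ⟶ tot φ p} (h1 : u ≫ proj φ p = v ≫ proj φ p)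
    (h2 : u ≫ toW φ p = v ≫ toW φ p) : u = v := by
  apply Over.OverMorphism.ext
  exact pullback.hom_ext (congrArg CommaMorphism.left h1) (congrArg CommaMorphism.left h2)

variable (hφ : GIT.IsInvariant a φ)

include hφ in
lemma act_condition : ((G ◁ proj φ p) ≫ a.act).left ≫ φ.left = (snd G (tot φ p) ≫ toW φ p).left ≫ p := by
  have h := congrArg CommaMorphism.left (congrArg ((G ◁ proj φ p) ≫ ·) hφ)
  rw [← Category.assoc (G ◁ proj φ p) (snd G X), whiskerLeft_snd] at h
  simp only [Over.comp_left, Category.assoc] at h ⊢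
  refine h.trans ?_
  congr 1
  exact pullback.condition

/-- The lifted action map. -/
def actMap : G ⊗ tot φ p ⟶ tot φ p :=
  Over.homMk (pullback.lift _ _ (act_condition a φ p hφ)) (by
    show pullback.lift _ _ _ ≫ pullback.fst φ.left p ≫ X.hom = _
    rw [pullback.lift_fst_assoc]
    exact Over.w _)

lemma actMap_proj : actMap a φ p hφ ≫ proj φ p = (G ◁ proj φ p) ≫ a.act :=
  Over.OverMorphism.ext (pullback.lift_fst _ _ _)

lemma actMap_toW : actMap a φ p hφ ≫ toW φ p = snd G (tot φ p) ≫ toW φ p :=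
  Over.OverMorphism.ext (pullback.lift_snd _ _ _)

/-- The lifted action. -/
def liftAct : AlgGrp.Action G (tot φ p) where
  act := actMap a φ p hφ
  one_act := by
    refine tot_ext φ p ?_ ?_
    · rw [Category.assoc, actMap_proj, ← whisker_exchange_assoc, a.one_act, leftUnitor_naturality]
    · rw [Category.assoc, actMap_toW, ← Category.assoc, whiskerRight_snd]
      simp [leftUnitor_hom]
  mul_act := by
    refine tot_ext φ p ?_ ?_
    · simp only [Category.assoc, actMap_proj]
      rw [← whisker_exchange_assoc, a.mul_act, associator_naturality_right_assoc]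
      congr 1
      rw [← MonoidalCategory.whiskerLeft_comp_assoc, ← MonoidalCategory.whiskerLeft_comp_assoc, actMap_proj]
    · simp only [Category.assoc, actMap_toW]
      rw [whiskerLeft_snd_assoc, actMap_toW]
      simp

variable [IsAffineHom p] {κ : Type v} (c : Coords p κ)

/-- The pulled back coordinates. -/
def fV (l : κ) : Γ((tot φ p).left, ⊤) := (toW φ p).left.appTop (c.f l)

/-- The open over which `fV l` is a coordinate. -/
abbrev Xo (l : κ) : X.left.Opens := φ.left ⁻¹ᵁ c.U l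

lemma preimage_le (l : κ) :
    (proj φ p).left ⁻¹ᵁ Xo φ p c l ≤ (toW φ p).left ⁻¹ᵁ (p ⁻¹ᵁ c.U l) := by
  show pullback.fst φ.left p ⁻¹ᵁ (φ.left ⁻¹ᵁ c.U l) ≤ pullback.snd φ.left p ⁻¹ᵁ (p ⁻¹ᵁ c.U l)
  rw [← Scheme.Hom.comp_preimage, ← Scheme.Hom.comp_preimage, pullback.condition]

lemma fV_res (l : κ) {Z : (tot φ p).left.Opens} {U : Y.left.Opens} (e : Z ≤ (toW φ p).left ⁻¹ᵁ (p ⁻¹ᵁ U)) :
    (tot φ p).left.presheaf.map (homOfLE le_top).op (fV φ p c l) =
      (toW φ p).left.appLE (p ⁻¹ᵁ U) Z e (W.presheaf.map (homOfLE le_top).op (c.f l)) :=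
  res_appTop (toW φ p).left e (c.f l)

lemma appLE_base (U : Y.left.Opens) {Z : (tot φ p).left.Opens} {V : X.left.Opens}
    (e : Z ≤ (toW φ p).left ⁻¹ᵁ (p ⁻¹ᵁ U)) (e₁ : Z ≤ (proj φ p).left ⁻¹ᵁ V) (e₂ : V ≤ φ.left ⁻¹ᵁ U)
    (d : Γ(Y.left, U)) :
    (toW φ p).left.appLE (p ⁻¹ᵁ U) Z e (p.app U d) = (proj φ p).left.appLE V Z e₁ (φ.left.appLE U V e₂ d) := by
  rw [p.app_eq_appLE, ← ConcreteCategory.comp_apply, ← ConcreteCategory.comp_apply,
    Scheme.Hom.appLE_comp_appLE, Scheme.Hom.appLE_comp_appLE]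
  congr 2
  simp only [show (toW φ p).left ≫ p = (proj φ p).left ≫ φ.left from pullback.condition.symm]

lemma fV_rel (l m : κ) :
    ∃ d : Γ(Y.left, c.U l), Y.left.basicOpen d = c.U m ⊓ c.U l ∧
      GLinSh.resTop (proj φ p) (Xo φ p c l) (fV φ p c m) =
        (proj φ p).left.app (Xo φ p c l) (φ.left.app (c.U l) d) *
          GLinSh.resTop (proj φ p) (Xo φ p c l) (fV φ p c l) := by
  obtain ⟨d, hd, hrel⟩ := c.rel l m
  refine ⟨d, hd, ?_⟩
  unfold GLinSh.resTop
  rw [fV_res φ p c m (preimage_le φ p c l), fV_res φ p c l (preimage_le φ p c l), hrel, map_mul,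
    appLE_base φ p (c.U l) _ le_rfl le_rfl d, Scheme.Hom.app_eq_appLE (f := φ.left),
    Scheme.Hom.app_eq_appLE (f := (proj φ p).left)]

variable (hU : ∀ l, IsAffineOpen (c.U l)) (hcov : ∀ y : Y.left, ∃ l, y ∈ c.U l)

/-- The admissible coordinates. -/
def chart (U : X.left.Opens) : Set (Γ((tot φ p).left, (proj φ p).left ⁻¹ᵁ U)) :=
  {y | ∃ l, U = Xo φ p c l ∧ y = GLinSh.resTop (proj φ p) U (fV φ p c l)}

include hU in
lemma isFibreCoord (l : κ) :
    GLinSh.IsFibreCoord (proj φ p) (Xo φ p c l) (GLinSh.resTop (proj φ p) (Xo φ p c l) (fV φ p c l)) := by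
  intro V hV hle
  have H : IsPullback (proj φ p).left (toW φ p).left φ.left p := IsPullback.of_hasPullback φ.left p
  have hUY : (proj φ p).left ⁻¹ᵁ V = (proj φ p).left ⁻¹ᵁ V ⊓ (toW φ p).left ⁻¹ᵁ (p ⁻¹ᵁ c.U l) :=
    (inf_eq_left.mpr (((proj φ p).left.preimage_mono hle).trans (preimage_le φ p c l))).symm
  have hpo := (isIso_pushoutSection_iff H (US := c.U l) (UT := p ⁻¹ᵁ c.U l) le_rfl hle hUY).mp
    (isIso_pushoutSection_of_isAffineOpen H le_rfl hle hUY (hU l) ((hU l).preimage p) hV)
  have hb := c.coord l (c.U l) (hU l) le_rfl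
  rw [p.app_eq_appLE] at hb
  have := bijective_eval₂_pushout hpo hb
  have hy : GLinSh.res (proj φ p) hle (GLinSh.resTop (proj φ p) (Xo φ p c l) (fV φ p c l)) =
      (tot φ p).left.presheaf.map (homOfLE le_top).op (fV φ p c l) := by
    rw [GLinSh.res, GLinSh.resTop, ← ConcreteCategory.comp_apply, ← Functor.map_comp]
    rfl
  rw [hy, fV_res φ p c l (((proj φ p).left.preimage_mono hle).trans (preimage_le φ p c l)),
    (proj φ p).left.app_eq_appLE]
  exact this

include hU hcov in
/-- The linear atlas. -/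
def atlas : GLinSh.LinAtlas (proj φ p) where
  affine := MorphismProperty.of_isPullback (P := @IsAffineHom.{u})
    (IsPullback.of_hasPullback φ.left p).flip ‹IsAffineHom p›
  chart := chart φ p c
  cover x := by
    obtain ⟨l, hl⟩ := hcov (φ.left x)
    exact ⟨Xo φ p c l, hl, _, l, rfl, rfl⟩
  coord := by
    rintro _ _ ⟨l, rfl, rfl⟩
    exact isFibreCoord φ p c hU l
  linear := by
    rintro _ _ _ _ ⟨l, rfl, rfl⟩ ⟨m, rfl, rfl⟩
    obtain ⟨d, hd, hrel⟩ := fV_rel φ p c l m
    refine ⟨X.left.presheaf.map (homOfLE inf_le_left).op (φ.left.app (c.U l) d), ?_, ?_⟩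
    · refine isUnit_res (Z := Xo φ p c l ⊓ Xo φ p c m) _ ?_
      rw [← Scheme.preimage_basicOpen, hd, inf_comm, Scheme.Hom.preimage_inf]
    · have h := congrArg (GLinSh.res (proj φ p) (inf_le_left : Xo φ p c l ⊓ Xo φ p c m ≤ _)) hrel
      simp only [GLinSh.res, map_mul] at h
      refine Eq.trans ?_ (h.trans ?_)
      · simp only [GLinSh.res, GLinSh.resTop, ← ConcreteCategory.comp_apply, ← Functor.map_comp]
        rfl
      · congr 1
        exact (ConcreteCategory.congr_hom ((proj φ p).left.naturality (homOfLE inf_le_left).op) _).symm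

include hU hcov in
/-- The linearised line bundle. -/
def bundle : GLinSh.LinBun G a where
  V := tot φ p
  π := proj φ p
  atlas := atlas φ p c hU hcov
  lift := liftAct a φ p hφ
  lift_π := actMap_proj a φ p hφ
  lift_linear := by
    rintro _ _ _ _ ⟨l, rfl, rfl⟩ ⟨m, rfl, rfl⟩
    obtain ⟨d, -, hrel⟩ := fV_rel φ p c l m
    refine ⟨(snd G X).left.appLE (Xo φ p c l) _ inf_le_right (φ.left.app (c.U l) d), ?_⟩
    have hinv : (actMap a φ p hφ).left.appTop (fV φ p c m) = (snd G (tot φ p)).left.appTop (fV φ p c m) := by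
      rw [fV, ← ConcreteCategory.comp_apply, ← ConcreteCategory.comp_apply, ← Scheme.Hom.comp_appTop,
        ← Scheme.Hom.comp_appTop, ← Over.comp_left, ← Over.comp_left, actMap_toW]
    have key : ∀ {f : G ⊗ tot φ p ⟶ tot φ p} {U : X.left.Opens}
        (e : GLinSh.liftOpen a (proj φ p) (Xo φ p c l) (Xo φ p c m) ≤ f.left ⁻¹ᵁ ((proj φ p).left ⁻¹ᵁ U)),
        f.left.appLE _ (GLinSh.liftOpen a (proj φ p) (Xo φ p c l) (Xo φ p c m)) e
            (GLinSh.resTop (proj φ p) U (fV φ p c m)) =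
          (G ⊗ tot φ p).left.presheaf.map (homOfLE le_top).op (f.left.appTop (fV φ p c m)) := fun {f U} e => by
      exact (res_appTop f.left e _).symm
    refine (key (f := actMap a φ p hφ) (U := Xo φ p c m) _).trans ?_
    rw [hinv, ← key (f := snd G (tot φ p)) (U := Xo φ p c l) (GLinSh.liftOpen_le_snd a (proj φ p)), hrel, map_mul]
    congr 1
    rw [← ConcreteCategory.comp_apply ((proj φ p).left.app _), ← ConcreteCategory.comp_apply ((snd G X).left.appLE _ _ _),
      Scheme.Hom.appLE_comp_appLE, (proj φ p).left.app_eq_appLE, Scheme.Hom.appLE_comp_appLE]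
    congr 2
    simp only [← Over.comp_left, whiskerLeft_snd]

end Groth.Agent.LinBunPull66
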